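import Cfsg.Agent.H20.RIM.AS
import Cfsg.Agent.H994.NX.Wie
import Cfsg.Agent.H586.NX.Fix
import Cfsg.Agent.H473.NX.Kill

/-!
# S4816, `q = p = 3`, box K4 (helper921), first part

* `iso_card` : an isotropic subgroup `T` of `U` : `|T|² ≤ |U|`;
* `sylow_small` : `n = 4`, all elements of order 3 have `|C_U(x)| ≤ 16` and the Sylow subgroups have fixed vectors: `9 ∤ |Y|`;
* `no_one` : there is no element of order 3 with `|C_U(y)| = 64` (counting of the planes with `q = 1`).
-/

set_option autoImplicit false

namespace Cfsg.Agent.H921.RIM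

open Cfsg.Agent.H586.NX Cfsg.Agent.H994.NX Cfsg.Agent.H20.RIM Cfsg.Agent.H473.NX
open Cfsg.Agent.H727.GW Module

section iso

variable {p q s n : ℕ} {Y U : Type*} [Group Y] [Finite Y] [AddCommGroup U] [Finite U] [DistribMulAction Y U]
  {X : Subgroup Y} {B : U → U → ZMod s}

/-- an isotropic subspace: `|T|² ≤ |U|` -/
theorem iso_card (h : SX (U := U) p q s n X B) (T : AddSubgroup U) (hiso : ∀ u ∈ T, ∀ v ∈ T, B u v = 0) :
    Nat.card T ^ 2 ≤ Nat.card U := by
  haveI := Fact.mk h.hs
  obtain ⟨M, B', ρ, h1, hBB, h2, h3, h4, h5⟩ := setup B h.faith h.exp h.card h.addl h.addr h.alt h.nd h.inv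
  let T' : Submodule (ZMod s) U := AddSubgroup.toZModSubmodule s T
  have hrefl : B'.IsRefl := by
    have : B'.IsAlt := fun c => h3 c
    exact this.isRefl
  have hnd : B'.Nondegenerate := ⟨h4, fun c hc => h4 c fun c' => hrefl _ _ (hc c')⟩
  have h8 := LinearMap.BilinForm.finrank_orthogonal hnd T'
  have h9 : T' ≤ B'.orthogonal T' := by
    intro c hc d hd
    have h10 : B' d c = 0 := by
      rw [hBB]
      exact hiso _ hd _ hc
    exact h10
  have h10 := Submodule.finrank_mono h9
  have h11 := Submodule.finrank_le T'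
  have h13 : Nat.card T = s ^ finrank (ZMod s) T' := by
    have h14 : Nat.card T = Nat.card T' := rfl
    rw [h14, Module.natCard_eq_pow_finrank (K := ZMod s), Nat.card_zmod]
  rw [h13, Module.natCard_eq_pow_finrank (K := ZMod s) (V := U), Nat.card_zmod, ← pow_mul]
  exact Nat.pow_le_pow_right h.hs.pos (by omega)

end iso

section act

variable {Y U : Type*} [Group Y] [AddCommGroup U] [DistribMulAction Y U]

/-- the action on an invariant subgroup -/
@[instance_reducible]
def actD (P : Subgroup Y) (T : AddSubgroup U) (h : ∀ m ∈ P, ∀ t ∈ T, m • t ∈ T) : DistribMulAction P T where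
  smul m t := ⟨(m : Y) • (t : U), h m m.2 t t.2⟩
  one_smul t := Subtype.ext (one_smul Y (t : U))
  mul_smul a b t := Subtype.ext (mul_smul (a : Y) (b : Y) (t : U))
  smul_zero m := Subtype.ext (smul_zero (m : Y))
  smul_add m a b := Subtype.ext (smul_add (m : Y) (a : U) (b : U))

/-- a fixed point free element of order 3 on an invariant subgroup -/
theorem exists_free [Finite Y] [Finite U] {P : Subgroup Y} (hP : IsPGroup 3 P) (T : AddSubgroup U)
    (hexp : ∀ u : U, 2 • u = 0) (h : ∀ m ∈ P, ∀ t ∈ T, m • t ∈ T) {i : ℕ} (hi : i = 3 ∨ i = 4)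
    (hcard : Nat.card T = 2 ^ i) (hf : ∀ x ∈ P, orderOf x = 3 → ∃ t ∈ T, x • t ≠ t) (h9 : 9 ∣ Nat.card P) :
    i = 4 ∧ ∃ x ∈ P, orderOf x = 3 ∧ ∀ t ∈ T, x • t = t → t = 0 := by
  have : Fact (Nat.Prime 3) := ⟨Nat.prime_three⟩
  let _ := actD P T h
  have hexpT : ∀ t : T, 2 • t = 0 := fun t => Subtype.ext (hexp t)
  have hsm : ∀ (m : P) (t : T), ((m • t : T) : U) = (m : Y) • (t : U) := fun m t => rfl
  -- exponents
  have hex : ∀ x : P, orderOf x = 3 → ∃ e, Nat.card {t : T // x • t = t} = 2 ^ e ∧ e < i ∧ (e + i) % 2 = 0 := by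
    intro x hx
    let V : AddSubgroup T :=
      { carrier := {t | x • t = t}
        zero_mem' := smul_zero x
        add_mem' := fun {a b} ha hb => by
          show x • (a + b) = a + b
          rw [smul_add, ha, hb]
        neg_mem' := fun {a} ha => by
          show x • (-a) = -a
          rw [smul_neg, ha] }
    obtain ⟨e, he⟩ := card_two (U := T) hexpT V
    have he' : Nat.card {t : T // x • t = t} = 2 ^ e := he
    refine ⟨e, he', ?_, ?_⟩
    · have h1 : Nat.card V ∣ Nat.card T := AddSubgroup.card_addSubgroup_dvd_card V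
      rw [he, hcard] at h1
      have h2 := (Nat.pow_dvd_pow_iff_le_right (by norm_num : 1 < 2)).1 h1
      refine lt_of_le_of_ne h2 ?_
      rintro rfl
      obtain ⟨t, ht, ht'⟩ := hf x x.2 (by rw [Subgroup.orderOf_coe, hx])
      have h3 : V = ⊤ := AddSubgroup.eq_top_of_card_eq V (by rw [he, hcard])
      have h4 : (⟨t, ht⟩ : T) ∈ V := by rw [h3]; exact AddSubgroup.mem_top _
      exact ht' (congrArg Subtype.val (show x • (⟨t, ht⟩ : T) = ⟨t, ht⟩ from h4))
    · have hz : IsPGroup 3 (Subgroup.zpowers (x : Y)) :=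
        IsPGroup.of_card (n := 1) (by rw [Nat.card_zpowers, Subgroup.orderOf_coe, hx, pow_one])
      have hm : ∀ m ∈ Subgroup.zpowers (x : Y), ∀ t ∈ T, m • t ∈ T := fun m hm t ht =>
        h m ((Subgroup.zpowers_le.2 x.2) hm) t ht
      have h1 := card_fix_mod hz hm
      have h2 : Nat.card (fixT (Subgroup.zpowers (x : Y)) T) = Nat.card {t : T // x • t = t} := by
        refine Nat.card_congr ⟨fun t => ⟨⟨t, t.2.1⟩, Subtype.ext (t.2.2 x (Subgroup.mem_zpowers _))⟩,
          fun t => ⟨(t.1 : U), t.1.2, fun m hm => ?_⟩, fun t => rfl, fun t => rfl⟩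
        have h3 : (x : Y) • (t.1 : U) = t.1 := congrArg Subtype.val t.2
        have h4 : Subgroup.zpowers (x : Y) ≤ MulAction.stabilizer Y (t.1 : U) := by
          rw [Subgroup.zpowers_le]
          exact h3
        exact h4 hm
      rw [h2, he', hcard] at h1
      have h3 : ∀ a : ℕ, 2 ^ a % 3 = if a % 2 = 0 then 1 else 2 := by
        intro a
        induction a with
        | zero => rfl
        | succ a ih =>
          rw [pow_succ, Nat.mul_mod, ih]
          rcases Nat.mod_two_eq_zero_or_one a with ha | ha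
          · rw [if_pos ha, if_neg (by omega)]
          · rw [if_neg (by omega), if_pos (by omega)]
      have h4 : 2 ^ i % 3 = 2 ^ e % 3 := h1
      rw [h3, h3] at h4
      split_ifs at h4 <;> omega
  obtain ⟨A, -, ⟨y, -, hy⟩ | ⟨x, -, y, -, hx, hy, hxy, hne⟩⟩ := nine_cases h9
  · -- an element of order 9
    exfalso
    obtain ⟨m, hm⟩ := order_nine (U := T) hexpT y (by rw [← hy]; exact pow_orderOf_eq_one y)
    have ho : orderOf (y ^ 3) = 3 := by
      rw [orderOf_pow, hy]
      norm_num
    obtain ⟨e, he, hei, hp⟩ := hex _ ho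
    rw [he, hcard] at hm
    have h2 : (2 : ℕ) ^ i = 2 ^ (e + 6 * m) := by
      rw [hm, pow_add, pow_mul 2 6 m]
      norm_num
    have h3 := Nat.pow_right_injective (le_refl 2) h2
    omega
  · obtain ⟨o1, o2⟩ := order_prod hx hy hxy hne
    have hw := wielandt (U := T) hexpT x y hx hy hxy hne
    obtain ⟨k, hk⟩ := card_common_pow (U := T) hexpT x y
    obtain ⟨a, ha, ha1, ha2⟩ := hex x hx
    obtain ⟨b, hb, hb1, hb2⟩ := hex y hy
    obtain ⟨c, hc, hc1, hc2⟩ := hex _ o1
    obtain ⟨d, hd, hd1, hd2⟩ := hex _ o2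
    have hsum : a + b + c + d = i + 3 * k := by
      rw [ha, hb, hc, hd, hk, hcard] at hw
      have h2 : (2 : ℕ) ^ (a + b + c + d) = 2 ^ (i + 3 * k) := by
        rw [pow_add, pow_add, pow_add, hw, pow_add, mul_comm 3 k, pow_mul 2 k 3]
      exact Nat.pow_right_injective (le_refl 2) h2
    have hzero : ∀ z : P, orderOf z = 3 → Nat.card {t : T // z • t = t} = 2 ^ 0 →
        ∃ x ∈ P, orderOf x = 3 ∧ ∀ t ∈ T, x • t = t → t = 0 := by
      intro z hz h1
      refine ⟨z, z.2, by rw [Subgroup.orderOf_coe, hz], fun t ht hzt => ?_⟩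
      rw [pow_zero] at h1
      have hs := (Nat.card_eq_one_iff_unique.1 h1).1
      have h2 := hs.elim ⟨⟨t, ht⟩, Subtype.ext hzt⟩ ⟨0, smul_zero z⟩
      exact congrArg (fun v : {t : T // z • t = t} => ((v : T) : U)) h2
    rcases hi with rfl | rfl
    · exfalso
      omega
    · refine ⟨rfl, ?_⟩
      by_cases h0 : a = 0
      · rw [h0] at ha; exact hzero _ hx ha
      by_cases h0' : b = 0
      · rw [h0'] at hb; exact hzero _ hy hb
      by_cases h0'' : c = 0
      · rw [h0''] at hc; exact hzero _ o1 hc
      by_cases h0''' : d = 0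
      · rw [h0'''] at hd; exact hzero _ o2 hd
      exfalso
      omega

end act

section small

variable {r n Q : ℕ} {Y U : Type*} [Group Y] [Finite Y] [AddCommGroup U] [Finite U] [DistribMulAction Y U]
  {X : Subgroup Y} {B : U → U → ZMod 2}

theorem B_symm (h : SX (U := U) 3 r 2 n X B) (u v : U) : B u v = B v u := by
  have h1 := h.alt (u + v)
  rw [h.addl, h.addr, h.addr, h.alt, h.alt, zero_add, add_zero] at h1
  have h2 : ∀ a b : ZMod 2, a + b = 0 → a = b := by decide
  exact h2 _ _ h1

theorem B_zero (h : SX (U := U) 3 r 2 n X B) (u : U) : B 0 u = 0 := by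
  have h1 := h.addl 0 0 u
  rw [add_zero] at h1
  have h2 : ∀ a : ZMod 2, a = a + a → a = 0 := by decide
  exact h2 _ h1

/-- the orthogonal subgroup of a set -/
def orth (h : SX (U := U) 3 r 2 n X B) (S : Set U) : AddSubgroup U where
  carrier := {v | ∀ a ∈ S, B v a = 0}
  zero_mem' := fun a _ => B_zero h a
  add_mem' := fun {u v} hu hv a ha => by rw [h.addl, hu a ha, hv a ha, add_zero]
  neg_mem' := fun {u} hu a ha => by
    have h1 := h.addl u (-u) a
    rw [add_neg_cancel, B_zero h, hu a ha, zero_add] at h1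
    exact h1.symm

theorem mem_orth {h : SX (U := U) 3 r 2 n X B} {S : Set U} {v : U} : v ∈ orth h S ↔ ∀ a ∈ S, B v a = 0 := Iff.rfl

/-- a subgroup generated by pairwise orthogonal elements is isotropic -/
theorem iso_closure (h : SX (U := U) 3 r 2 n X B) {S : Set U} (hS : ∀ a ∈ S, ∀ b ∈ S, B a b = 0) :
    ∀ u ∈ AddSubgroup.closure S, ∀ v ∈ AddSubgroup.closure S, B u v = 0 := by
  have h1 : AddSubgroup.closure S ≤ orth h S := (AddSubgroup.closure_le _).2 fun a ha => mem_orth.2 (hS a ha)
  intro u hu
  have h2 : AddSubgroup.closure S ≤ orth h {u} := (AddSubgroup.closure_le _).2 fun a ha => mem_orth.2 fun b hb => by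
    rw [Set.mem_singleton_iff.1 hb, B_symm h]
    exact mem_orth.1 (h1 hu) a ha
  intro v hv
  rw [B_symm h]
  exact mem_orth.1 (h2 hv) u rfl

/-- **`9 ∤ |Y|`** -/
theorem sylow_small (A : AS (U := U) r 4 Q X B) (hall : ∀ x : Y, orderOf x = 3 → Nat.card {u : U // x • u = u} ≤ 16) :
    ¬ 9 ∣ Nat.card Y := by
  intro h9
  have : Fact (Nat.Prime 3) := ⟨Nat.prime_three⟩
  obtain ⟨P, T, i, hi, hT, hiso, hinv⟩ := A.big
  have hexp : ∀ u : U, 2 • u = 0 := A.S.exp
  have h9P : 9 ∣ Nat.card P := by
    have := Sylow.pow_dvd_card_of_pow_dvd_card (n := 2) P (by norm_num; exact h9)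
    norm_num at this
    exact this
  have hi' : i = 3 ∨ i = 4 := by omega
  obtain ⟨hi4, x, hxP, hx, hfree⟩ := exists_free P.isPGroup' T hexp hinv hi' hT (by
    intro x _ hx
    by_contra hcon
    push Not at hcon
    have h1 := card_sq_le A.S hx T hiso hcon
    have h3 := hall x hx
    rw [hT] at h1
    rcases hi' with rfl | rfl <;> norm_num at h1 <;> omega) h9P
  subst hi4
  obtain ⟨u, hu0, hu⟩ := A.fixd (Or.inr le_rfl) P
  have hx3 : x ^ 3 = 1 := by rw [← hx]; exact pow_orderOf_eq_one x
  have hxxx : ∀ v : U, x • x • x • v = v := smul_three hx3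
  have hxu : x • u = u := hu x hxP
  -- `u` is orthogonal to `T`
  have horth : ∀ t ∈ T, B t u = 0 := by
    intro t ht
    have ht1 := hinv x hxP t ht
    have ht2 := hinv x hxP _ ht1
    have h1 : t + x • t + x • x • t = 0 := by
      apply hfree _ (T.add_mem (T.add_mem ht ht1) ht2)
      rw [smul_add, smul_add, hxxx]
      abel
    have h3 := B_zero A.S u
    rw [← h1, A.S.addl, A.S.addl] at h3
    have h4 : B (x • t) u = B t u := by
      conv_lhs => rw [← hxu]
      exact A.S.inv x t u
    have h5 : B (x • x • t) u = B t u := by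
      have h6 : B (x • x • t) u = B (x • t) u := by
        conv_lhs => rw [← hxu]
        exact A.S.inv x _ u
      rw [h6, h4]
    rw [h4, h5] at h3
    have h6 : ∀ a : ZMod 2, a + a + a = 0 → a = 0 := by decide
    exact h6 _ h3
  -- the isotropic subgroup generated by `T` and `u`
  let S : Set U := insert u (T : Set U)
  have hS : ∀ a ∈ S, ∀ b ∈ S, B a b = 0 := by
    rintro a (rfl | ha) b (rfl | hb)
    · exact A.S.alt _
    · rw [B_symm A.S]; exact horth b hb
    · exact horth a ha
    · exact hiso a ha b hb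
  have h1 := iso_card A.S (AddSubgroup.closure S) (iso_closure A.S hS)
  rw [A.S.card, show 2 ^ (2 * 4) = 16 ^ 2 by norm_num] at h1
  have h3 : T ≤ AddSubgroup.closure S := fun t ht => AddSubgroup.subset_closure (Or.inr ht)
  have h4 : Nat.card (AddSubgroup.closure S) ≤ 16 := (Nat.pow_le_pow_iff_left two_ne_zero).1 h1
  have h5 : T = AddSubgroup.closure S := by
    apply SetLike.coe_injective
    apply Set.eq_of_subset_of_ncard_le h3
    · rw [← Nat.card_coe_set_eq, ← Nat.card_coe_set_eq]
      show Nat.card (AddSubgroup.closure S) ≤ Nat.card T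
      rw [hT]
      exact h4
  have h6 : u ∈ T := by
    rw [h5]
    exact AddSubgroup.subset_closure (Or.inl rfl)
  exact hu0 (hfree u h6 hxu)

/-! ### the moved plane of an element of order 3 -/

theorem e3_inv (h : SX (U := U) 3 r 2 n X B) {y : Y} (hy : y ^ 3 = 1) {u v : U} (hu : y • u = u) (hv : e3 y v = 0) :
    B v u = 0 := by
  have h3 := B_zero h u
  rw [← hv] at h3
  unfold e3 at h3
  rw [h.addl, h.addl] at h3
  have h4 : B (y • v) u = B v u := by
    conv_lhs => rw [← hu]
    exact h.inv y v u
  have h5 : B (y • y • v) u = B v u := by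
    have h6 : B (y • y • v) u = B (y • v) u := by
      conv_lhs => rw [← hu]
      exact h.inv y _ u
    rw [h6, h4]
  rw [h4, h5] at h3
  have h6 : ∀ a : ZMod 2, a + a + a = 0 → a = 0 := by decide
  exact h6 _ h3

theorem add_self (h : SX (U := U) 3 r 2 n X B) (u : U) : u + u = 0 := by
  have := h.exp u
  rwa [two_smul] at this

theorem eq_of_add_zero (h : SX (U := U) 3 r 2 n X B) {u v : U} (huv : u + v = 0) : u = v := by
  have h1 : u + v + v = v := by rw [huv, zero_add]
  rwa [add_assoc, add_self h, add_zero] at h1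

theorem e3_moved (h : SX (U := U) 3 r 2 n X B) {y : Y} (hy : y ^ 3 = 1) (v : U) : e3 y (v + e3 y v) = 0 := by
  rw [e3_add, e3_fix h.exp (smul_e3 hy v), add_self h]

/-- a moved vector orthogonal to the moved vectors is zero -/
theorem moved_nd (h : SX (U := U) 3 r 2 n X B) {y : Y} (hy : y ^ 3 = 1) {v : U} (hv : e3 y v = 0)
    (ho : ∀ u, e3 y u = 0 → B v u = 0) : v = 0 := by
  apply h.nd
  intro u
  have h1 : u = e3 y u + (u + e3 y u) := by
    rw [add_comm u, ← add_assoc, add_self h, zero_add]
  rw [h1, h.addr, e3_inv h hy (smul_e3 hy u) hv, ho _ (e3_moved h hy u), add_zero]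

/-- the vectors orthogonal to the moved vectors are fixed -/
theorem fix_of_orth (h : SX (U := U) 3 r 2 n X B) {y : Y} (hy : y ^ 3 = 1) {v : U}
    (ho : ∀ u, e3 y u = 0 → B v u = 0) : y • v = v := by
  have hyyy : ∀ u : U, y • y • y • u = u := smul_three hy
  have h1 : e3 y (v + y • v) = 0 := by
    unfold e3
    rw [smul_add, smul_add, hyyy]
    have : v + y • v + (y • v + y • y • v) + (y • y • v + v) = (v + v) + (y • v + y • v) + (y • y • v + y • y • v) := by
      abel
    rw [this, add_self h v, add_self h (y • v), add_self h (y • y • v), add_zero, add_zero]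
  have h3 : v + y • v = 0 := by
    refine moved_nd h hy h1 fun u hu => ?_
    have h4 : B (y • v) u = B v (y • y • u) := by
      rw [← h.inv y v (y • y • u), hyyy]
    have h5 : e3 y (y • y • u) = 0 := by
      have h6 : e3 y (y • y • u) = e3 y u := by
        unfold e3
        rw [hyyy]; abel
      rw [h6, hu]
    rw [h.addl, ho u hu, h4, ho _ h5, add_zero]
  exact (eq_of_add_zero h h3).symm

/-- the quadratic form is 1 on the nonzero moved vectors -/
theorem q_moved (h : SX (U := U) 3 r 2 n X B) {q : U → ZMod 2} (hq : ∀ u v, q (u + v) = q u + q v + B u v)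
    (hqi : ∀ (y : Y) (u : U), q (y • u) = q u) {y : Y} (hy : y ^ 3 = 1) (h4 : ∀ u v : U, u ≠ 0 → e3 y u = 0 →
      e3 y v = 0 → v = 0 ∨ v = u ∨ v = y • u ∨ v = y • y • u) {u : U} (hu : u ≠ 0) (hu' : e3 y u = 0) : q u = 1 := by
  have h1 : u + y • u = y • y • u := eq_of_add_zero h hu'
  have h3 : q u = B u (y • u) := by
    have h5 := hq u (y • u)
    rw [h1, hqi, hqi] at h5
    have h6 : ∀ a b : ZMod 2, a = a + a + b → a = b := by decide
    exact h6 _ _ h5
  by_contra hcon
  have h7 : ∀ a : ZMod 2, a ≠ 1 → a = 0 := by decide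
  have h8 : B u (y • u) = 0 := by rw [← h3]; exact h7 _ hcon
  apply hu
  refine moved_nd h hy hu' fun v hv => ?_
  rcases h4 u v hu hu' hv with rfl | rfl | rfl | rfl
  · rw [B_symm h]; exact B_zero h _
  · exact h.alt _
  · exact h8
  · rw [← h1, h.addr, h.alt, h8, add_zero]

end small

section count

open Finset

variable {U : Type*} [AddCommGroup U] [Fintype U] [DecidableEq U] {B : U → U → ZMod 2} {q : U → ZMod 2}

theorem card_flip (p p' : U → Prop) [DecidablePred p] [DecidablePred p'] (v : U) (h : ∀ c, p (c + v) ↔ p' c) :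
    (univ.filter p).card = (univ.filter p').card := by
  rw [← Fintype.card_subtype, ← Fintype.card_subtype]
  refine Fintype.card_congr (Equiv.subtypeEquiv (Equiv.subRight v) fun c => ?_)
  rw [Equiv.subRight_apply, ← h, sub_add_cancel]

/-- **the count of the vectors with `q = 1`** -/
theorem count_q (hadd : ∀ u v w : U, B (u + v) w = B u w + B v w) (halt : ∀ u : U, B u u = 0)
    (hsymm : ∀ u v, B u v = B v u) (hnd : ∀ w : U, w ≠ 0 → ∃ v, B v w = 1)
    (hq : ∀ u v, q (u + v) = q u + q v + B u v) (hexp : ∀ u : U, u + u = 0) (hU : Fintype.card U = 256) :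
    (∀ w : U, w ≠ 0 → q w = 1 → (univ.filter fun c => q c = 1 ∧ B c w = 1).card + 64 = (univ.filter fun c => q c = 1).card) ∧
    (univ.filter fun c => q c = 1).card ≤ 136 := by
  have h01 : ∀ a : ZMod 2, a ≠ 1 ↔ a = 0 := by decide
  have h10 : ∀ a : ZMod 2, a ≠ 0 ↔ a = 1 := by decide
  have hor : ∀ a : ZMod 2, a = 0 ∨ a = 1 := by decide
  -- splitting a set
  have hsplit : ∀ (p : U → Prop) (f : U → ZMod 2) [DecidablePred p], (univ.filter fun c => p c ∧ f c = 1).card +
      (univ.filter fun c => p c ∧ f c = 0).card = (univ.filter p).card := by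
    intro p f _
    rw [← Finset.filter_filter, ← Finset.filter_filter]
    have h1 := Finset.card_filter_add_card_filter_not (s := univ.filter p) (fun c => f c = 1)
    have h2 : ((univ.filter p).filter fun c => ¬ f c = 1) = (univ.filter p).filter fun c => f c = 0 :=
      Finset.filter_congr fun c _ => h01 (f c)
    rw [h2] at h1
    exact h1
  have hB128 : ∀ w : U, w ≠ 0 → (univ.filter fun c => B c w = 1).card = 128 ∧ (univ.filter fun c => B c w = 0).card = 128 := by
    intro w hw
    obtain ⟨v, hv⟩ := hnd w hw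
    have h1 : (univ.filter fun c => B c w = 1).card = (univ.filter fun c => B c w = 0).card := by
      refine card_flip _ _ v fun c => ?_
      rw [hadd, hv]
      generalize B c w = a
      revert a; decide
    have h2 := hsplit (fun _ => True) (fun c => B c w)
    simp only [true_and, Finset.filter_true, Finset.card_univ, hU] at h2
    omega
  -- `q c = 1`, `B c w = b` with `b ≠ q w`
  have h64 : ∀ w : U, w ≠ 0 → ∀ b : ZMod 2, b ≠ q w → (univ.filter fun c => B c w = b ∧ q c = 1).card = 64 := by
    intro w hw b hb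
    have h1 : (univ.filter fun c => B c w = b ∧ q c = 1).card = (univ.filter fun c => B c w = b ∧ q c = 0).card := by
      refine card_flip _ _ w fun c => ?_
      rw [hadd, halt, add_zero, hq]
      constructor
      · rintro ⟨h3, h4⟩
        refine ⟨h3, ?_⟩
        rw [h3] at h4
        have key : ∀ x y b : ZMod 2, b ≠ y → x + y + b = 1 → x = 0 := by decide
        exact key _ _ _ hb h4
      · rintro ⟨h3, h4⟩
        refine ⟨h3, ?_⟩
        rw [h3, h4]
        have key : ∀ y b : ZMod 2, b ≠ y → 0 + y + b = 1 := by decide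
        exact key _ _ hb
    have h2 := hsplit (fun c => B c w = b) q
    have h3 : (univ.filter fun c => B c w = b).card = 128 := by
      rcases hor b with rfl | rfl
      · exact (hB128 w hw).2
      · exact (hB128 w hw).1
    rw [h3, h1] at h2
    omega
  have hN : ∀ w : U, w ≠ 0 → (univ.filter fun c => q c = 1 ∧ q (c + w) = 1).card + 64 =
      (univ.filter fun c => q c = 1).card := by
    intro w hw
    have h1 := hsplit (fun c => q c = 1) (fun c => B c w)
    have h2 : (univ.filter fun c => q c = 1 ∧ q (c + w) = 1) = univ.filter fun c => q c = 1 ∧ B c w = q w := by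
      apply Finset.filter_congr
      intro c _
      rw [hq]
      refine and_congr_right fun h3 => ?_
      rw [h3]
      generalize q w = x
      generalize B c w = y
      revert x y; decide
    rw [h2]
    rcases hor (q w) with h3 | h3
    · have h4 := h64 w hw 1 (by rw [h3]; decide)
      simp only [and_comm] at h4 h1 ⊢
      rw [h3]
      omega
    · have h4 := h64 w hw 0 (by rw [h3]; decide)
      simp only [and_comm] at h4 h1 ⊢
      rw [h3]
      omega
  constructor
  · intro w hw hqw
    have h1 := hsplit (fun c => q c = 1) (fun c => B c w)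
    have h4 := h64 w hw 0 (by rw [hqw]; decide)
    simp only [and_comm] at h4 h1 ⊢
    omega
  · set m := (univ.filter fun c => q c = 1).card with hm
    have h1 : m * m = ∑ w : U, (univ.filter fun c => q c = 1 ∧ q (c + w) = 1).card := by
      have h2 : m * m = ((univ.filter fun c => q c = 1) ×ˢ (univ.filter fun c => q c = 1)).card := by
        rw [Finset.card_product]
      have h3 : ∑ w : U, (univ.filter fun c => q c = 1 ∧ q (c + w) = 1).card =
          (univ.sigma fun w : U => univ.filter fun c => q c = 1 ∧ q (c + w) = 1).card := by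
        rw [Finset.card_sigma]
      rw [h2, h3]
      refine Finset.card_nbij' (fun a => ⟨a.1 + a.2, a.1⟩) (fun a => (a.2, a.2 + a.1)) ?_ ?_ ?_ ?_
      · rintro ⟨a, b⟩ h
        simp only [Finset.coe_product, Set.mem_prod, Finset.mem_coe, Finset.mem_filter, Finset.mem_univ,
          true_and] at h
        simp only [Finset.mem_coe, Finset.mem_sigma, Finset.mem_univ, Finset.mem_filter, true_and]
        refine ⟨h.1, ?_⟩
        rw [← add_assoc, hexp, zero_add]
        exact h.2
      · rintro ⟨w, c⟩ h
        simp only [Finset.mem_coe, Finset.mem_sigma, Finset.mem_univ, Finset.mem_filter, true_and] at h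
        simp only [Finset.coe_product, Set.mem_prod, Finset.mem_coe, Finset.mem_filter, Finset.mem_univ,
          true_and]
        exact h
      · rintro ⟨a, b⟩ _
        show (a, a + (a + b)) = (a, b)
        rw [← add_assoc, hexp, zero_add]
      · rintro ⟨w, c⟩ _
        show (⟨c + (c + w), c⟩ : Σ _ : U, U) = ⟨w, c⟩
        rw [← add_assoc, hexp, zero_add]
    have h2 : ∑ w : U, ((univ.filter fun c => q c = 1 ∧ q (c + w) = 1).card + if w = 0 then 0 else 64) =
        ∑ _w : U, m := by
      apply Finset.sum_congr rfl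
      intro w _
      by_cases hw : w = 0
      · subst hw
        rw [if_pos rfl, add_zero]
        simp only [add_zero, and_self]
        exact hm.symm
      · rw [if_neg hw]
        exact hN w hw
    rw [Finset.sum_add_distrib, ← h1, Finset.sum_const, Finset.card_univ, hU, smul_eq_mul] at h2
    have h3 : ∑ w : U, (if w = 0 then 0 else 64) = 255 * 64 := by
      rw [Finset.sum_ite, Finset.sum_const_zero, zero_add, Finset.sum_const, smul_eq_mul]
      congr 1
      have h4 : (univ.filter fun w : U => ¬ w = 0) = univ.erase 0 := by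
        ext w; simp
      rw [h4, Finset.card_erase_of_mem (Finset.mem_univ _), Finset.card_univ, hU]
    rw [h3] at h2
    by_contra hcon
    push Not at hcon
    have h5 : m ≤ 256 := by rw [hm, ← hU]; exact Finset.card_le_univ _
    nlinarith

end count

section one

variable {r Q : ℕ} {Y U : Type*} [Group Y] [Finite Y] [AddCommGroup U] [Finite U] [DistribMulAction Y U]
  {X : Subgroup Y} {B : U → U → ZMod 2}

/-- the moved plane -/
theorem plane_cases (h : SX (U := U) 3 r 2 4 X B) {y : Y} (hy : y ^ 3 = 1)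
    (h64 : Nat.card {u : U // y • u = u} = 64) :
    Nat.card {u : U // e3 y u = 0} = 4 ∧ ∀ u v : U, u ≠ 0 → e3 y u = 0 → e3 y v = 0 →
      v = 0 ∨ v = u ∨ v = y • u ∨ v = y • y • u := by
  classical
  have hft : Fintype U := Fintype.ofFinite U
  have hc := card_split (U := U) h.exp hy
  rw [h.card, h64] at hc
  have hc4 : Nat.card {u : U // e3 y u = 0} = 4 := by
    have : 64 * Nat.card {u : U // e3 y u = 0} = 64 * 4 := by rw [← hc]; norm_num
    exact Nat.eq_of_mul_eq_mul_left (by norm_num) this
  refine ⟨hc4, fun u v hu hu' hv => ?_⟩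
  have hyyy : ∀ u : U, y • y • y • u = u := smul_three hy
  have n1 : y • u ≠ u := by
    intro h1
    apply hu
    rw [← e3_fix h.exp h1]
    exact hu'
  have n2 : y • y • u ≠ u := by
    intro h1
    apply n1
    conv_lhs => rw [← h1]
    exact hyyy u
  have n3 : y • y • u ≠ y • u := fun h1 => n1 (smul_left_cancel y h1)
  have n4 : y • u ≠ 0 := fun h1 => hu ((smul_eq_zero_iff_eq y).1 h1)
  have n5 : y • y • u ≠ 0 := fun h1 => n4 ((smul_eq_zero_iff_eq y).1 h1)
  have e1 : ∀ w : U, e3 y w = 0 → e3 y (y • w) = 0 := by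
    intro w hw
    have h6 : e3 y (y • w) = e3 y w := by
      unfold e3
      rw [hyyy]; abel
    rw [h6, hw]
  have hsub : ({0, u, y • u, y • y • u} : Finset U) ⊆ Finset.univ.filter fun w => e3 y w = 0 := by
    intro w hw
    simp only [Finset.mem_insert, Finset.mem_singleton] at hw
    rw [Finset.mem_filter]
    refine ⟨Finset.mem_univ _, ?_⟩
    rcases hw with rfl | rfl | rfl | rfl
    · exact e3_zero y
    · exact hu'
    · exact e1 _ hu'
    · exact e1 _ (e1 _ hu')
  have hcard : ({0, u, y • u, y • y • u} : Finset U).card = 4 := by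
    rw [Finset.card_insert_of_notMem, Finset.card_insert_of_notMem, Finset.card_insert_of_notMem,
      Finset.card_singleton]
    · simp only [Finset.mem_singleton]
      exact fun h1 => n3 h1.symm
    · simp only [Finset.mem_insert, Finset.mem_singleton, not_or]
      exact ⟨fun h1 => n1 h1.symm, fun h1 => n2 h1.symm⟩
    · simp only [Finset.mem_insert, Finset.mem_singleton, not_or]
      exact ⟨fun h1 => hu h1.symm, fun h1 => n4 h1.symm, fun h1 => n5 h1.symm⟩
  have hcard' : (Finset.univ.filter fun w : U => e3 y w = 0).card = 4 := by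
    rw [← Fintype.card_subtype, ← Nat.card_eq_fintype_card]
    exact hc4
  have heq := Finset.eq_of_subset_of_card_le hsub (by rw [hcard, hcard'])
  have h5 : v ∈ Finset.univ.filter fun w => e3 y w = 0 := Finset.mem_filter.2 ⟨Finset.mem_univ _, hv⟩
  rw [← heq] at h5
  simpa only [Finset.mem_insert, Finset.mem_singleton] using h5

/-- an element stabilising the moved plane normalises `⟨y⟩` -/
theorem mem_norm (h : SX (U := U) 3 r 2 4 X B) {y : Y} (hy : orderOf y = 3)
    (h64 : Nat.card {u : U // y • u = u} = 64) {w : Y} (hw : ∀ u : U, e3 y u = 0 → e3 y (w • u) = 0)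
    (hw' : ∀ u : U, e3 y u = 0 → e3 y (w⁻¹ • u) = 0) :
    w ∈ Subgroup.normalizer ((Subgroup.zpowers y : Subgroup Y) : Set Y) := by
  have hy3 : y ^ 3 = 1 := orderOf_three hy
  obtain ⟨hc4, hpl⟩ := plane_cases h hy3 h64
  have hyyy : ∀ u : U, y • y • y • u = u := smul_three hy3
  have e1 : ∀ v : U, e3 y v = 0 → e3 y (y • v) = 0 := by
    intro v hv
    have h6 : e3 y (y • v) = e3 y v := by
      unfold e3
      rw [hyyy]; abel
    rw [h6, hv]
  set y' := w * y * w⁻¹ with hy'
  -- fixed vectors
  have hfix : ∀ v : U, y • v = v → y' • v = v := by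
    intro v hv
    have h1 : y • (w⁻¹ • v) = w⁻¹ • v := by
      refine fix_of_orth h hy3 fun u hu => ?_
      have h3 : B (w⁻¹ • v) u = B v (w • u) := by
        rw [← h.inv w (w⁻¹ • v) u, smul_inv_smul]
      rw [h3, B_symm h]
      exact e3_inv h hy3 hv (hw u hu)
    rw [hy', mul_smul, mul_smul, h1, smul_inv_smul]
  -- a moved vector
  have hex : ∃ a : U, a ≠ 0 ∧ e3 y a = 0 := by
    by_contra hcon
    push Not at hcon
    have h1 : Subsingleton {u : U // e3 y u = 0} := ⟨fun a b => Subtype.ext (by
      have ha : a.1 = 0 := by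
        by_contra h0
        exact hcon a.1 h0 a.2
      have hb : b.1 = 0 := by
        by_contra h0
        exact hcon b.1 h0 b.2
      rw [ha, hb])⟩
    have h2 := Finite.card_le_one_iff_subsingleton.2 h1
    omega
  obtain ⟨a, ha, ha'⟩ := hex
  have hym : e3 y (y' • a) = 0 := by
    rw [hy', mul_smul, mul_smul]
    exact hw _ (e1 _ (hw' _ ha'))
  -- `e3 y' a = 0`
  have he3 : a + y' • a + y' • y' • a = 0 := by
    have h1 := hw' a ha'
    have h2 : w • e3 y (w⁻¹ • a) = a + y' • a + y' • y' • a := by
      unfold e3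
      rw [smul_add, smul_add, smul_inv_smul, hy']
      simp only [← mul_smul]
      congr 2
      group
    rw [← h2, h1, smul_zero]
  -- agreement on the plane implies equality
  have hagree : ∀ z : Y, (∀ v : U, y • v = v → z • v = v) → y' • a = z • a → y' • y' • a = z • z • a →
      (∀ v : U, e3 y v = 0 → v = 0 ∨ v = a ∨ v = z • a ∨ v = a + z • a) → y' = z := by
    intro z hz h1 h2 h3
    have h4 : z⁻¹ * y' = 1 := by
      apply h.faith
      intro u
      have h5 : u = e3 y u + (u + e3 y u) := by
        rw [add_comm u, ← add_assoc, add_self h, zero_add]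
      have h6' : y' • (u + e3 y u) = z • (u + e3 y u) := by
        have h8 : y' • z • a = z • z • a := by
          have h9 := h2
          rw [h1] at h9
          exact h9
        rcases h3 _ (e3_moved h hy3 u) with h7 | h7 | h7 | h7
        · rw [h7, smul_zero, smul_zero]
        · rw [h7, h1]
        · rw [h7, h8]
        · rw [h7, smul_add, smul_add, h8, h1]
      have h6 : y' • u = z • u := by
        calc y' • u = y' • (e3 y u + (u + e3 y u)) := by rw [← h5]
          _ = y' • e3 y u + y' • (u + e3 y u) := smul_add _ _ _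
          _ = z • e3 y u + z • (u + e3 y u) := by rw [h6', hfix _ (smul_e3 hy3 u), hz _ (smul_e3 hy3 u)]
          _ = z • (e3 y u + (u + e3 y u)) := (smul_add _ _ _).symm
          _ = z • u := by rw [← h5]
      rw [mul_smul, h6, inv_smul_smul]
    exact (inv_mul_eq_one.1 h4).symm
  have hmem : y' ∈ Subgroup.zpowers y := by
    rcases hpl a (y' • a) ha ha' hym with h1 | h1 | h1 | h1
    · exact absurd ((smul_eq_zero_iff_eq y').1 h1) ha
    · -- `y'` fixes `a`
      exfalso
      rw [h1, h1, add_self h, zero_add] at he3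
      exact ha he3
    · have h2 : y' = y := by
        refine hagree y (fun v hv => hv) h1 ?_ ?_
        · have h3 := eq_of_add_zero h he3
          have h4 := eq_of_add_zero h (show a + y • a + y • y • a = 0 from ha')
          rw [← h3, ← h4, h1]
        · intro v hv
          rcases hpl a v ha ha' hv with h3 | h3 | h3 | h3
          · exact Or.inl h3
          · exact Or.inr (Or.inl h3)
          · exact Or.inr (Or.inr (Or.inl h3))
          · have h4 := eq_of_add_zero h (show a + y • a + y • y • a = 0 from ha')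
            rw [← h4] at h3
            exact Or.inr (Or.inr (Or.inr h3))
      rw [h2]
      exact Subgroup.mem_zpowers y
    · have h1' : y' • a = (y * y) • a := h1.trans (mul_smul y y a).symm
      have h2 : y' = y * y := by
        have h4 := eq_of_add_zero h (show a + y • a + y • y • a = 0 from ha')
        have h5 : a + y • y • a = y • a := by
          rw [← h4, ← add_assoc, add_self h, zero_add]
        refine hagree (y * y) (fun v hv => by rw [mul_smul, hv, hv]) h1' ?_ ?_
        · have h3 := eq_of_add_zero h he3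
          rw [← h3, h1, h5, mul_smul, mul_smul, hyyy]
        · intro v hv
          rcases hpl a v ha ha' hv with h3 | h3 | h3 | h3
          · exact Or.inl h3
          · exact Or.inr (Or.inl h3)
          · rw [← h5] at h3
            exact Or.inr (Or.inr (Or.inr (by rw [mul_smul]; exact h3)))
          · exact Or.inr (Or.inr (Or.inl (by rw [mul_smul]; exact h3)))
      rw [h2]
      exact Subgroup.mul_mem _ (Subgroup.mem_zpowers y) (Subgroup.mem_zpowers y)
  apply Subgroup.mem_normalizer_fintype
  rintro _ ⟨k, rfl⟩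
  show w * y ^ k * w⁻¹ ∈ Subgroup.zpowers y
  rw [← conj_zpow]
  exact Subgroup.zpow_mem _ hmem k

/-- **no elements of order 3 with `|C_U(y)| = 64`** -/
theorem no_one (A : AS (U := U) r 4 3 X B) {y : Y} (hy : orderOf y = 3)
    (h64 : Nat.card {u : U // y • u = u} = 64) : False := by
  classical
  have hft : Fintype U := Fintype.ofFinite U
  have h := A.S
  have hy3 : y ^ 3 = 1 := orderOf_three hy
  obtain ⟨q, hq, hqi, -⟩ := A.qf rfl
  obtain ⟨hc4, hpl⟩ := plane_cases h hy3 h64
  have hyyy : ∀ u : U, y • y • y • u = u := smul_three hy3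
  have hU : Fintype.card U = 256 := by
    rw [← Nat.card_eq_fintype_card, h.card]
    norm_num
  have hnd : ∀ w : U, w ≠ 0 → ∃ v, B v w = 1 := by
    intro w hw
    by_contra hcon
    push Not at hcon
    apply hw
    apply h.nd
    intro v
    have h1 : ∀ a : ZMod 2, a ≠ 1 → a = 0 := by decide
    rw [B_symm h]
    exact h1 _ (hcon v)
  obtain ⟨hcnt, h136⟩ := count_q (B := B) (q := q) h.addl h.alt (B_symm h) hnd hq (add_self h) hU
  set m := (Finset.univ.filter fun c : U => q c = 1).card with hm
  let D : Finset U := Finset.univ.filter fun u => u ≠ 0 ∧ e3 y u = 0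
  have hDmem : ∀ u, u ∈ D ↔ u ≠ 0 ∧ e3 y u = 0 := fun u => by
    simp only [D, Finset.mem_filter, Finset.mem_univ, true_and]
  have hDcard : D.card = 3 := by
    have h1 : (Finset.univ.filter fun w : U => e3 y w = 0).card = 4 := by
      rw [← Fintype.card_subtype, ← Nat.card_eq_fintype_card]
      exact hc4
    have h2 : D = (Finset.univ.filter fun w : U => e3 y w = 0).erase 0 := by
      ext u
      rw [hDmem, Finset.mem_erase, Finset.mem_filter]
      simp
    have h0 : (0 : U) ∈ Finset.univ.filter fun w : U => e3 y w = 0 :=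
      Finset.mem_filter.2 ⟨Finset.mem_univ _, e3_zero y⟩
    rw [h2, Finset.card_erase_of_mem h0, h1]
  have hDq : ∀ u ∈ D, q u = 1 := fun u hu =>
    q_moved h hq hqi hy3 hpl ((hDmem u).1 hu).1 ((hDmem u).1 hu).2
  have hDadd : ∀ c ∈ D, ∀ d ∈ D, c ≠ d → c + d ∈ D := by
    intro c hc d hd hcd
    rw [hDmem] at hc hd ⊢
    refine ⟨fun h0 => hcd (eq_of_add_zero h h0), ?_⟩
    rw [e3_add, hc.2, hd.2, add_zero]
  have hDB : ∀ c ∈ D, ∀ d ∈ D, c ≠ d → B c d = 1 := by
    intro c hc d hd hcd
    have h1 := hq c d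
    rw [hDq _ (hDadd c hc d hd hcd), hDq c hc, hDq d hd] at h1
    have h2 : ∀ a : ZMod 2, 1 = 1 + 1 + a → a = 1 := by decide
    exact h2 _ h1
  let S : Finset (Σ _ : U, U) := (Finset.univ.filter fun w => q w = 1).sigma fun w =>
    Finset.univ.filter fun c => q c = 1 ∧ B c w = 1
  have hq0 : q 0 = 0 := by
    have h1 := hq 0 0
    rw [add_zero, h.alt, add_zero] at h1
    have h2 : ∀ a : ZMod 2, a = a + a → a = 0 := by decide
    exact h2 _ h1
  have hS : S.card + 64 * m = m * m := by
    have h1 : S.card = ∑ w ∈ Finset.univ.filter fun w => q w = 1, (m - 64) := by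
      rw [Finset.card_sigma]
      refine Finset.sum_congr rfl fun w hw => ?_
      have hqw := (Finset.mem_filter.1 hw).2
      have h2 := hcnt w (fun h0 => by rw [h0, hq0] at hqw; exact absurd hqw (by decide)) hqw
      omega
    have h64m : m = 0 ∨ 64 ≤ m := by
      by_cases h0 : m = 0
      · exact Or.inl h0
      · right
        obtain ⟨w, hw⟩ := Finset.card_pos.1 (Nat.pos_of_ne_zero h0)
        have hqw := (Finset.mem_filter.1 hw).2
        have h2 := hcnt w (fun h0 => by rw [h0, hq0] at hqw; exact absurd hqw (by decide)) hqw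
        omega
    rw [h1, Finset.sum_const, smul_eq_mul, ← hm]
    rcases h64m with h0 | h0
    · rw [h0]
    · obtain ⟨k, hk⟩ := Nat.exists_eq_add_of_le h0
      rw [hk, Nat.add_sub_cancel_left]
      ring
  -- the injection
  let N := Subgroup.normalizer ((Subgroup.zpowers y : Subgroup Y) : Set Y)
  have hinj : Nat.card ((Y ⧸ N) × {p : U × U // p ∈ D.offDiag}) ≤ Nat.card {x : Σ _ : U, U // x ∈ S} := by
    let F : (Y ⧸ N) × {p : U × U // p ∈ D.offDiag} → {x : Σ _ : U, U // x ∈ S} := fun x =>
      ⟨⟨x.1.out • x.2.1.1, x.1.out • x.2.1.2⟩, by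
        have h1 := Finset.mem_offDiag.1 x.2.2
        simp only [S, Finset.mem_sigma, Finset.mem_filter, Finset.mem_univ, true_and]
        rw [hqi, hqi, h.inv, B_symm h]
        exact ⟨hDq _ h1.1, hDq _ h1.2.1, hDB _ h1.1 _ h1.2.1 h1.2.2⟩⟩
    refine Nat.card_le_card_of_injective F ?_
    rintro ⟨x, ⟨⟨c, d⟩, hcd⟩⟩ ⟨x', ⟨⟨c', d'⟩, hcd'⟩⟩ hF
    have hF1 : x.out • c = x'.out • c' := congrArg (fun z : {x : Σ _ : U, U // x ∈ S} => z.1.1) hF
    have hF2 : x.out • d = x'.out • d' := congrArg (fun z : {x : Σ _ : U, U // x ∈ S} => z.1.2) hF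
    obtain ⟨m1, m2, m3⟩ := Finset.mem_offDiag.1 hcd
    obtain ⟨m1', m2', m3'⟩ := Finset.mem_offDiag.1 hcd'
    change c ∈ D at m1
    change d ∈ D at m2
    change c ≠ d at m3
    change c' ∈ D at m1'
    change d' ∈ D at m2'
    change c' ≠ d' at m3'
    -- the plane is `{0, c, d, c + d}`
    have hpl' : ∀ c ∈ D, ∀ d ∈ D, c ≠ d → ∀ v : U, e3 y v = 0 → v = 0 ∨ v = c ∨ v = d ∨ v = c + d := by
      intro c hc d hd hcd v hv
      by_contra hcon
      push Not at hcon
      obtain ⟨k1, k2, k3, k4⟩ := hcon
      have hv' : v ∈ D := (hDmem v).2 ⟨k1, hv⟩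
      have h5 : ({v, c, d, c + d} : Finset U) ⊆ D := by
        intro z hz
        simp only [Finset.mem_insert, Finset.mem_singleton] at hz
        rcases hz with rfl | rfl | rfl | rfl
        · exact hv'
        · exact hc
        · exact hd
        · exact hDadd _ hc _ hd hcd
      have h6 := Finset.card_le_card h5
      rw [hDcard, Finset.card_insert_of_notMem, Finset.card_insert_of_notMem, Finset.card_insert_of_notMem,
        Finset.card_singleton] at h6
      · omega
      · simp only [Finset.mem_singleton]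
        intro h7
        exact ((hDmem c).1 hc).1 (by simpa using h7)
      · simp only [Finset.mem_insert, Finset.mem_singleton, not_or]
        refine ⟨hcd, fun h7 => ((hDmem d).1 hd).1 (by simpa using h7)⟩
      · simp only [Finset.mem_insert, Finset.mem_singleton, not_or]
        exact ⟨k2, k3, k4⟩
    have hmap : ∀ (w : Y) (c d c' d' : U), c ∈ D → d ∈ D → c ≠ d → c' ∈ D → d' ∈ D → w • c = c' → w • d = d' →
        ∀ u : U, e3 y u = 0 → e3 y (w • u) = 0 := by
      intro w c d c' d' hc hd hcd hc' hd' e1 e2 u hu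
      rcases hpl' c hc d hd hcd u hu with rfl | rfl | rfl | rfl
      · rw [smul_zero, e3_zero]
      · rw [e1]; exact ((hDmem _).1 hc').2
      · rw [e2]; exact ((hDmem _).1 hd').2
      · rw [smul_add, e3_add, e1, e2, ((hDmem _).1 hc').2, ((hDmem _).1 hd').2, add_zero]
    have e1 : (x'.out⁻¹ * x.out) • c = c' := by rw [mul_smul, hF1, inv_smul_smul]
    have e2 : (x'.out⁻¹ * x.out) • d = d' := by rw [mul_smul, hF2, inv_smul_smul]
    have hN : x'.out⁻¹ * x.out ∈ N := by
      refine mem_norm h hy h64 (hmap _ c d c' d' m1 m2 m3 m1' m2' e1 e2) ?_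
      refine hmap _ c' d' c d m1' m2' m3' m1 m2 ?_ ?_
      · rw [← e1, inv_smul_smul]
      · rw [← e2, inv_smul_smul]
    have hx : x' = x := by
      have h7 : ((x'.out : Y) : Y ⧸ N) = (x.out : Y) := QuotientGroup.eq.2 hN
      rwa [QuotientGroup.out_eq', QuotientGroup.out_eq'] at h7
    subst hx
    have hc : c = c' := smul_left_cancel _ hF1
    have hd : d = d' := smul_left_cancel _ hF2
    subst hc hd
    rfl
  have hoff : Nat.card {p : U × U // p ∈ D.offDiag} = 6 := by
    rw [Nat.card_eq_fintype_card, Fintype.card_coe, Finset.offDiag_card, hDcard]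
  have hScard : Nat.card {x : Σ _ : U, U // x ∈ S} = S.card := by
    rw [Nat.card_eq_fintype_card, Fintype.card_coe]
  rw [Nat.card_prod, hoff, hScard] at hinj
  have hidx : N.index * 6 ≤ S.card := hinj
  obtain ⟨k, hk, hk'⟩ := A.cnt y hy 1 (by norm_num) (by rw [h64]; norm_num)
  have hk1 : k ≤ 1 := by omega
  have hS' : S.card ≤ 9792 := by nlinarith
  have hN' : N.index ≤ 1632 := by omega
  have h8 : 4 ^ 1 * N.index * 3 ^ (2 ^ (4 - 1) * k) ≤ 4 ^ 1 * 1632 * 3 ^ (2 ^ (4 - 1) * 1) :=
    Nat.mul_le_mul (Nat.mul_le_mul_left _ hN') (Nat.pow_le_pow_right (by norm_num) (Nat.mul_le_mul_left _ hk1))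
  have h9 := hk'.trans h8
  norm_num at h9

end one

end Cfsg.Agent.H921.RIM
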